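import Cfsg.Agent.LieClassical.HermBasic
import Cfsg.Agent.H760.StrU3
import Cfsg.Agent.H358.UThreeB
import Cfsg.Agent.H77.Witt
import Cfsg.Agent.S0780
import Cfsg.Agent.H242.StrP.FCUni
import Cfsg.Agent.H162.CC.Tools3
import Cfsg.Agent.FastGrp
import Cfsg.Agent.Prune
set_option linter.all false
prune_inst 0x7f00000000000000000000000000000000000000000000000000000000000000000000000000000000000000000000000000000000000000000000000000000000000000000000000000000000000000003fffffffffffffffffffffffffffbeffbdffffffff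
open scoped Cfsg.Agent.FastGrp

-- part: H487/CC/QuadRoot
section
/-!
# Quadratic polynomials over the subfield of index two have roots (helper487, for S3828)
-/

set_option autoImplicit false

namespace Cfsg.Agent.H487.CCPsu3

open Cfsg Cfsg.Agent.LieClassical.HermBasic

variable {F : Type*} [Field F] [Fintype F] {q : ℕ}

/-- **Artin-Schreier equations** in characteristic two. -/
theorem exists_as (hF : Fintype.card F = q ^ 2) (h2 : (2 : F) = 0) {c : F} (hc : c ^ q = c) :
    ∃ y : F, y * y + y = c := by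
  have hneg : ∀ x : F, -x = x := fun x => by
    have : x + x = 0 := by rw [← two_mul, h2, zero_mul]
    exact (eq_neg_of_add_eq_zero_left this).symm
  have hxx : ∀ x : F, x + x = 0 := fun x => by rw [← two_mul, h2, zero_mul]
  have h1 : (1 : F) ^ q = 1 := one_pow q
  -- the subfield as additive group
  let K : AddSubgroup F :=
    { carrier := {x | x ^ q = x}
      zero_mem' := zero_pow_q hF
      add_mem' := fun {a b} ha hb => by
        change (a + b) ^ q = a + b
        rw [add_pow_q hF, ha, hb]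
      neg_mem' := fun {a} ha => by
        change (-a) ^ q = -a
        rw [neg_pow_q hF, ha] }
  have hK : ∀ x : F, x ∈ K ↔ x ^ q = x := fun x => Iff.rfl
  let f : K →+ K :=
    { toFun := fun y => ⟨(y : F) * y + y, by
        rw [hK, add_pow_q hF, mul_pow, (hK _).1 y.2]⟩
      map_zero' := by
        apply Subtype.ext
        simp
      map_add' := fun a b => by
        apply Subtype.ext
        change ((a : F) + b) * (a + b) + (a + b) = (a * a + a) + (b * b + b)
        linear_combination (a : F) * b * h2 }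
  -- the kernel has order two
  have hker : Nat.card f.ker = 2 := by
    have hone : (1 : F) ∈ K := h1
    have h3 : ((f.ker : AddSubgroup K) : Set K) = {0, ⟨1, hone⟩} := by
      ext y
      rw [SetLike.mem_coe, AddMonoidHom.mem_ker, Set.mem_insert_iff, Set.mem_singleton_iff]
      constructor
      · intro h
        have h4 : (y : F) * y + y = 0 := congrArg Subtype.val h
        have h5 : (y : F) * (y + 1) = 0 := by linear_combination h4
        rcases mul_eq_zero.1 h5 with h6 | h6
        · exact Or.inl (Subtype.ext h6)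
        · right
          apply Subtype.ext
          change (y : F) = 1
          rw [eq_neg_of_add_eq_zero_left h6, hneg]
      · rintro (h | h)
        · rw [h, map_zero]
        · rw [h]
          apply Subtype.ext
          change (1 : F) * 1 + 1 = 0
          rw [mul_one, hxx]
    have h4 : Nat.card f.ker = ((f.ker : AddSubgroup K) : Set K).ncard := rfl
    rw [h4, h3, Set.ncard_pair]
    intro h
    exact zero_ne_one (congrArg Subtype.val h : (0 : F) = 1)
  have hidx : f.range.index = 2 := by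
    have h3 : Nat.card f.ker * Nat.card f.range = Nat.card K := by
      rw [mul_comm]
      have := AddSubgroup.card_eq_card_quotient_mul_card_addSubgroup f.ker
      rw [Nat.card_congr (QuotientAddGroup.quotientKerEquivRange f).toEquiv] at this
      exact this.symm
    have h4 := f.range.card_mul_index
    have h5 : 0 < Nat.card f.range := Nat.card_pos
    rw [hker] at h3
    have h6 : Nat.card f.range * f.range.index = Nat.card f.range * 2 := by rw [h4, ← h3, mul_comm]
    exact Nat.eq_of_mul_eq_mul_left h5 h6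
  obtain ⟨θ, hθ⟩ := exists_trace_eq hF h1
  have hθq : θ ^ q = θ + 1 := by
    have h3 : θ ^ q = 1 - θ := by linear_combination hθ
    rw [h3, sub_eq_add_neg, hneg, add_comm]
  have hθK : θ * θ + θ ∈ K := by
    rw [hK, add_pow_q hF, mul_pow, hθq]
    linear_combination (θ + 1) * h2
  have hθn : (⟨θ * θ + θ, hθK⟩ : K) ∉ f.range := by
    rintro ⟨y, hy⟩
    have h3 : (y : F) * y + y = θ * θ + θ := congrArg Subtype.val hy
    have h4 : ((y : F) + θ) * (y + θ + 1) = 0 := by
      linear_combination h3 + (θ * θ + θ + y * θ) * h2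
    have hyq := (hK _).1 y.2
    rcases mul_eq_zero.1 h4 with h5 | h5
    · have h6 : θ = y := by
        rw [← hneg (y : F)]
        linear_combination h5
      rw [← h6] at hyq
      rw [hθq] at hyq
      exact one_ne_zero (by linear_combination hyq : (1 : F) = 0)
    · have h6 : θ = y + 1 := by
        linear_combination h5 - (y + 1 : F) * h2
      rw [h6, add_pow_q hF, hyq, h1] at hθq
      exact one_ne_zero (by linear_combination -hθq : (1 : F) = 0)
  by_cases hcr : (⟨c, hc⟩ : K) ∈ f.range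
  · obtain ⟨y, hy⟩ := hcr
    exact ⟨y, congrArg Subtype.val hy⟩
  · have h3 := (AddSubgroup.add_mem_iff_of_index_two hidx (a := (⟨c, hc⟩ : K)) (b := ⟨θ * θ + θ, hθK⟩)).2
      (by simp only [hcr, hθn])
    obtain ⟨y, hy⟩ := h3
    have h4 : (y : F) * y + y = c + (θ * θ + θ) := congrArg Subtype.val hy
    refine ⟨y + θ, ?_⟩
    linear_combination h4 + (y * θ + θ * θ + θ) * h2

/-- **Quadratic polynomials over the fixed field.** -/
theorem quad_root (hF : Fintype.card F = q ^ 2) {t n : F} (ht : t ^ q = t) (hn : n ^ q = n) :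
    ∃ x : F, x * x - t * x - n = 0 := by
  classical
  by_cases h2 : (2 : F) = 0
  · have hneg : ∀ x : F, -x = x := fun x => by
      have : x + x = 0 := by rw [← two_mul, h2, zero_mul]
      exact (eq_neg_of_add_eq_zero_left this).symm
    by_cases ht0 : t = 0
    · have hc : ringChar F = 2 := by
        have h3 : ((2 : ℕ) : F) = 0 := by exact_mod_cast h2
        have h4 := ringChar.dvd h3
        rcases (Nat.dvd_prime Nat.prime_two).1 h4 with h5 | h5
        · exact absurd h5 (CharP.ringChar_ne_one)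
        · exact h5
      obtain ⟨x, hx⟩ := FiniteField.isSquare_of_char_two hc n
      exact ⟨x, by rw [ht0, zero_mul, sub_zero, hx, sub_self]⟩
    · obtain ⟨y, hy⟩ := exists_as hF h2 (c := n / (t * t)) (by rw [div_pow, mul_pow, ht, hn])
      refine ⟨t * y, ?_⟩
      have h3 : t * t * (n / (t * t)) = n := by field_simp
      linear_combination (t * t) * hy - (t * t * y) * h2 + h3
  · have h2q : (2 : F) ^ q = 2 := by
      have : (2 : F) = 1 + 1 := by norm_num
      rw [this, add_pow_q hF, one_pow]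
    set D : F := t * t + 4 * n with hD
    have hDq : D ^ q = D := by
      have h4 : (4 : F) ^ q = 4 := by
        have : (4 : F) = 2 * 2 := by norm_num
        rw [this, mul_pow, h2q]
      rw [hD, add_pow_q hF, mul_pow, mul_pow, ht, hn, h4]
    obtain ⟨s, hs⟩ : ∃ s : F, s * s = D := by
      by_cases hD0 : D = 0
      · exact ⟨0, by rw [hD0, mul_zero]⟩
      have hc : ringChar F ≠ 2 := by
        intro h
        apply h2
        have h3 : ((ringChar F : ℕ) : F) = 0 := ringChar.Nat.cast_ringChar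
        rw [h] at h3
        exact_mod_cast h3
      have hodd : Odd (Fintype.card F) := by
        rw [← Nat.not_even_iff_odd]
        intro h
        exact hc (FiniteField.even_card_iff_char_two.2 (Nat.even_iff.1 h))
      have hqodd : Odd q := by
        rw [hF] at hodd
        exact (Nat.odd_pow_iff two_ne_zero).1 hodd
      have hq2 := two_le hF
      have hD1 : D ^ (q - 1) = 1 := by
        have h3 : D ^ (q - 1) * D = 1 * D := by
          rw [← pow_succ, Nat.sub_add_cancel (by omega), hDq, one_mul]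
        exact mul_right_cancel₀ hD0 h3
      have h3 : Fintype.card F / 2 = (q - 1) * ((q + 1) / 2) := by
        obtain ⟨k, rfl⟩ := hqodd
        rw [hF]
        have e1 : (2 * k + 1 + 1) / 2 = k + 1 := by omega
        have e2 : (2 * k + 1) ^ 2 = 2 * ((2 * k) * (k + 1)) + 1 := by ring
        rw [e1, e2]
        have e3 : 2 * k + 1 - 1 = 2 * k := by omega
        rw [e3]
        omega
      obtain ⟨s, hs⟩ := (FiniteField.isSquare_iff hc hD0).2 (by rw [h3, pow_mul, hD1, one_pow])
      exact ⟨s, hs.symm⟩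
    refine ⟨(t + s) / 2, ?_⟩
    field_simp
    linear_combination hs

end Cfsg.Agent.H487.CCPsu3
end

-- part: H487/CC/PsuGeo
section
/-!
# `PSU₃(q)`: stabilisers of lines and generation (helper487, for S3828)
-/

set_option autoImplicit false
set_option linter.unusedSectionVars false
set_option linter.unusedVariables false

namespace Cfsg.Agent.H487.CCPsu3

open Cfsg Matrix
open Cfsg.Agent.LieClassical.HermBasic Cfsg.Agent.LieClassical.HermSiegel
open Cfsg.Agent.ClassicalGeometry.PSUAutBasic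
open Cfsg.Agent.H358.U3 (smul_of_perp)

variable {F : Type*} [Field F] [Fintype F] {q : ℕ}

/-! ### Linear algebra -/

/-- a vector orthogonal to two given vectors -/
theorem exists_perp (x y : Fin 3 → F) :
    ∃ z : Fin 3 → F, z ≠ 0 ∧ hermForm 3 F q z x = 0 ∧ hermForm 3 F q z y = 0 := by
  let L : (Fin 3 → F) →ₗ[F] (Fin 2 → F) :=
    { toFun := fun z => ![hermForm 3 F q z x, hermForm 3 F q z y]
      map_add' := fun a b => by
        rw [herm_add_left, herm_add_left]
        simp
      map_smul' := fun c a => by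
        rw [herm_smul_left, herm_smul_left]
        simp }
  have h1 : LinearMap.ker L ≠ ⊥ := LinearMap.ker_ne_bot_of_finrank_lt (by simp)
  obtain ⟨z, hz, hz0⟩ := (Submodule.ne_bot_iff _).1 h1
  have h2 : L z = 0 := hz
  exact ⟨z, hz0, congrFun h2 0, congrFun h2 1⟩

theorem dot_conj (z x : Fin 3 → F) : (fun i => x i ^ q) ⬝ᵥ z = hermForm 3 F q z x := by
  rw [herm_def, dotProduct]
  exact Finset.sum_congr rfl fun i _ => mul_comm _ _

/-- the vectors orthogonal to two independent vectors form a line -/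
theorem line_of_perp (hF : Fintype.card F = q ^ 2) {x y z z' : Fin 3 → F} (h : LinearIndependent F ![x, y])
    (hz0 : z ≠ 0) (hzx : hermForm 3 F q z x = 0) (hzy : hermForm 3 F q z y = 0)
    (hzx' : hermForm 3 F q z' x = 0) (hzy' : hermForm 3 F q z' y = 0) : ∃ c : F, z' = c • z := by
  set X : Fin 3 → F := fun i => x i ^ q with hX
  set Y : Fin 3 → F := fun i => y i ^ q with hY
  have hXY : LinearIndependent F ![X, Y] := by
    rw [LinearIndependent.pair_iff] at h ⊢
    intro s t hst
    have h1 : s ^ q • x + t ^ q • y = 0 := by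
      funext i
      have h2 := congrFun hst i
      rw [Pi.add_apply, Pi.smul_apply, Pi.smul_apply, Pi.zero_apply, smul_eq_mul, smul_eq_mul] at h2 ⊢
      rw [← pow_q_eq_zero hF, add_pow_q hF, mul_pow, mul_pow, pow_q_pow_q hF, pow_q_pow_q hF]
      exact h2
    obtain ⟨h2, h3⟩ := h _ _ h1
    exact ⟨(pow_q_eq_zero hF).1 h2, (pow_q_eq_zero hF).1 h3⟩
  have hn : X ⨯₃ Y ≠ 0 := crossProduct_ne_zero_iff_linearIndependent.2 hXY
  have key : ∀ w : Fin 3 → F, hermForm 3 F q w x = 0 → hermForm 3 F q w y = 0 → ∃ a : F, w = a • (X ⨯₃ Y) := by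
    intro w hwx hwy
    have h1 : X ⨯₃ Y ⨯₃ w = 0 := by
      rw [cross_cross_eq_smul_sub_smul, dot_conj, dot_conj, hwx, hwy, zero_smul, zero_smul, sub_zero]
    have h2 : ¬ LinearIndependent F ![X ⨯₃ Y, w] := fun h3 => crossProduct_ne_zero_iff_linearIndependent.2 h3 h1
    rw [LinearIndependent.pair_iff' hn] at h2
    push Not at h2
    obtain ⟨a, ha⟩ := h2
    exact ⟨a, ha.symm⟩
  obtain ⟨a, ha⟩ := key z hzx hzy
  obtain ⟨b, hb⟩ := key z' hzx' hzy'
  have ha0 : a ≠ 0 := by
    rintro rfl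
    rw [zero_smul] at ha
    exact hz0 ha
  exact ⟨b / a, by rw [ha, hb, smul_smul, div_mul_cancel₀ _ ha0]⟩

theorem linInd_of {x y : Fin 3 → F} (hx : x ≠ 0) (h : ¬ ∃ c : F, y = c • x) : LinearIndependent F ![x, y] := by
  rw [LinearIndependent.pair_iff' hx]
  intro a ha
  exact h ⟨a, ha.symm⟩

/-! ### Stabilisers of lines -/

/-- the stabiliser of the line of `v` -/
def St (F : Type*) [Field F] [Fintype F] (q : ℕ) (v : Fin 3 → F) : Subgroup (SU 3 F q) where
  carrier := {g | ∃ c : F, c ≠ 0 ∧ act g v = c • v}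
  one_mem' := ⟨1, one_ne_zero, by rw [act_one, one_smul]⟩
  mul_mem' := by
    rintro a b ⟨c, hc, h⟩ ⟨d, hd, h'⟩
    exact ⟨d * c, mul_ne_zero hd hc, by rw [act_mul, h', act_smul, h, smul_smul]⟩
  inv_mem' := by
    rintro a ⟨c, hc, h⟩
    refine ⟨c⁻¹, inv_ne_zero hc, ?_⟩
    have h1 : act a⁻¹ (act a v) = act a⁻¹ (c • v) := by rw [h]
    rw [act_inv_act, act_smul] at h1
    have h2 : c⁻¹ • v = c⁻¹ • (c • act a⁻¹ v) := by rw [← h1]
    rw [h2, smul_smul, inv_mul_cancel₀ hc, one_smul]

theorem mem_St_of {v : Fin 3 → F} (hv : v ≠ 0) {g : SU 3 F q} {c : F} (h : act g v = c • v) : g ∈ St F q v := by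
  refine ⟨c, ?_, h⟩
  rintro rfl
  rw [zero_smul, act_eq_zero] at h
  exact hv h

theorem center_le_St (hF : Fintype.card F = q ^ 2) (v : Fin 3 → F) : Subgroup.center (SU 3 F q) ≤ St F q v := by
  intro z hz
  obtain ⟨c, hc, -, h⟩ := exists_scalar_of_mem_center hF le_rfl hz
  exact ⟨c, hc, h v⟩

/-- its image in `PSU₃(q)` -/
def KK (F : Type*) [Field F] [Fintype F] (q : ℕ) (v : Fin 3 → F) : Subgroup (PSU 3 F q) := (St F q v).map (pr 3 F q)

theorem pr_mem_KK (hF : Fintype.card F = q ^ 2) {v : Fin 3 → F} {g : SU 3 F q} : pr 3 F q g ∈ KK F q v ↔ g ∈ St F q v := by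
  constructor
  · rintro ⟨h, hh, he⟩
    obtain ⟨z, hz, rfl⟩ := exists_center_mul he
    exact mul_mem hh (center_le_St hF v hz)
  · intro h
    exact ⟨g, h, rfl⟩

/-! ### Generation -/

/-- a subgroup of `SU₃(q)` which is transitive on the isotropic lines and contains a transvection group is everything -/
theorem eq_top_of_trans (hF : Fintype.card F = q ^ 2) (hq : 3 ≤ q) {M : Subgroup (SU 3 F q)} {e : Fin 3 → F} (he0 : e ≠ 0)
    (he : hermForm 3 F q e e = 0) (hM : transvG hF e he ≤ M)
    (htr : ∀ x : Fin 3 → F, x ≠ 0 → hermForm 3 F q x x = 0 → ∃ g ∈ M, ∃ c : F, c ≠ 0 ∧ act g e = c • x) : M = ⊤ := by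
  rw [eq_top_iff, ← Cfsg.Agent.S0780.result hF 3 le_rfl (by omega), Subgroup.closure_le]
  rintro A ⟨v, c, hv, hA⟩
  by_cases hv0 : v = 0
  · have h1 : A = 1 := by
      apply mat_injective
      rw [mat_one]
      change ((A : Matrix.SpecialLinearGroup (Fin 3) F) : Matrix (Fin 3) (Fin 3) F) = 1
      rw [hA, hv0]
      simp [unitaryTransvection]
    rw [h1]
    exact M.one_mem
  -- the action
  have hact : ∀ x, act A x = x + (c * hermForm 3 F q x v) • v := by
    intro x
    rw [act_def]
    change ((A : Matrix.SpecialLinearGroup (Fin 3) F) : Matrix (Fin 3) (Fin 3) F) *ᵥ x = _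
    rw [hA, unitaryTransvection, Matrix.add_mulVec, Matrix.one_mulVec, Matrix.smul_mulVec]
    funext i
    simp only [Pi.add_apply, Pi.smul_apply, smul_eq_mul, Matrix.mulVec, Matrix.vecMulVec_apply, dotProduct, herm_def]
    rw [Finset.mul_sum, Finset.mul_sum, Finset.sum_mul]
    congr 1
    exact Finset.sum_congr rfl fun j _ => by ring
  obtain ⟨g, hg, d, hd, hgv⟩ := htr v hv0 hv
  -- the conjugate by `g`
  have hc : c + c ^ q = 0 ∨ A = 1 := by
    obtain ⟨f, hff, hvf, hfv⟩ := Cfsg.Agent.ClassicalGeometry.PSUAutSylow.exists_partner hF hv0 hv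
    left
    have h1 := herm_act A f f
    rw [hact, hfv, mul_one, herm_add_left, herm_add_right hF, herm_add_right hF, herm_smul_left, herm_smul_right,
      herm_smul_left, herm_smul_right, hv, hff, hfv, hvf] at h1
    linear_combination h1
  rcases hc with hc | hc
  swap
  · rw [hc]; exact M.one_mem
  have hν : (c * (d⁻¹ * (d⁻¹) ^ q)) + (c * (d⁻¹ * (d⁻¹) ^ q)) ^ q = 0 := by
    rw [mul_pow, norm_pow_q hF, ← add_mul, hc, zero_mul]
  have h1 : g⁻¹ * A * g ∈ M := by
    apply hM
    refine mem_transvG.2 ⟨_, hν, ?_⟩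
    apply ext_act
    intro x
    have hgi : act g⁻¹ v = d⁻¹ • e := by
      have h2 : act g⁻¹ (act g e) = act g⁻¹ (d • v) := by rw [hgv]
      rw [act_inv_act, act_smul] at h2
      rw [h2, smul_smul, inv_mul_cancel₀ hd, one_smul]
    rw [act_transv, act_mul, act_mul, hact, act_add, act_inv_act, act_smul, hgi, smul_smul]
    congr 2
    have h3 : hermForm 3 F q (act g x) v = hermForm 3 F q x e * (d⁻¹) ^ q := by
      rw [herm_act_left, hgi, herm_smul_right]
      ring
    rw [h3]
    ring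
  have h2 := M.mul_mem (M.mul_mem hg h1) (M.inv_mem hg)
  have h3 : g * (g⁻¹ * A * g) * g⁻¹ = A := by group
  rwa [h3] at h2

end Cfsg.Agent.H487.CCPsu3
end

-- part: H487/CC/PsuGen
section
/-!
# `PSU₃(q)`: two stabilisers generate (helper487, for S3828)
-/

set_option autoImplicit false
set_option linter.unusedSectionVars false
set_option linter.unusedVariables false

namespace Cfsg.Agent.H487.CCPsu3

open Cfsg Matrix
open Cfsg.Agent.LieClassical.HermBasic Cfsg.Agent.LieClassical.HermSiegel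
open Cfsg.Agent.ClassicalGeometry.PSUAutBasic
open Cfsg.Agent.H358.U3 (smul_of_perp exists_move)

variable {F : Type*} [Field F] [Fintype F] {q : ℕ}

/-- isotropic vectors which are not proportional are not orthogonal -/
theorem herm_ne (hF : Fintype.card F = q ^ 2) {e x : Fin 3 → F} (he0 : e ≠ 0) (he : hermForm 3 F q e e = 0)
    (hx : hermForm 3 F q x x = 0) (h : ¬ ∃ c : F, x = c • e) : hermForm 3 F q x e ≠ 0 :=
  fun h1 => h (smul_of_perp hF he0 he hx h1)

theorem transvG_le_St (hF : Fintype.card F = q ^ 2) {e : Fin 3 → F} (he : hermForm 3 F q e e = 0) {v : Fin 3 → F}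
    (hv : hermForm 3 F q v e = 0) : transvG hF e he ≤ St F q v := by
  rintro _ ⟨ν, hν, rfl⟩
  refine ⟨1, one_ne_zero, ?_⟩
  rw [act_transv, hv, mul_zero, zero_smul, add_zero, one_smul]

/-- the stabiliser of an isotropic line is transitive on the other ones -/
theorem exists_St (hF : Fintype.card F = q ^ 2) {e x y : Fin 3 → F} (he0 : e ≠ 0) (he : hermForm 3 F q e e = 0)
    (hx : hermForm 3 F q x x = 0) (hy : hermForm 3 F q y y = 0) (hxe : ¬ ∃ c : F, x = c • e)
    (hye : ¬ ∃ c : F, y = c • e) : ∃ g ∈ St F q e, ∃ c : F, c ≠ 0 ∧ act g y = c • x := by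
  have h1 := herm_ne hF he0 he hx hxe
  have h2 := herm_ne hF he0 he hy hye
  set a := hermForm 3 F q x e with ha
  set b := hermForm 3 F q y e with hb
  obtain ⟨g, hg, hgy⟩ := exists_move hF (u := e) (v := b⁻¹ • y) (v' := a⁻¹ • x) he
    (by rw [herm_smul_left, herm_smul_right, hy, mul_zero, mul_zero])
    (by rw [herm_smul_left, herm_smul_right, hx, mul_zero, mul_zero])
    (by rw [herm_smul_left, ← hb, inv_mul_cancel₀ h2]) (by rw [herm_smul_left, ← ha, inv_mul_cancel₀ h1])
  refine ⟨g, ⟨1, one_ne_zero, by rw [hg, one_smul]⟩, b * a⁻¹, mul_ne_zero h2 (inv_ne_zero h1), ?_⟩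
  rw [act_smul] at hgy
  rw [mul_smul, ← hgy, smul_smul, mul_inv_cancel₀ h2, one_smul]

/-- a transvection moving an isotropic line -/
theorem exists_moved (hF : Fintype.card F = q ^ 2) {e f : Fin 3 → F} (he0 : e ≠ 0) (hf0 : f ≠ 0)
    (he : hermForm 3 F q e e = 0) (hf : hermForm 3 F q f f = 0) (hfe : ¬ ∃ c : F, f = c • e) :
    ∃ g ∈ transvG hF f hf, (¬ ∃ c : F, act g e = c • e) ∧ (¬ ∃ c : F, act g e = c • f) := by
  obtain ⟨ν, hν0, hν⟩ := exists_trace_zero_ne hF
  have hef : hermForm 3 F q e f ≠ 0 := by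
    intro h
    exact herm_ne hF he0 he hf hfe (herm_eq_zero_swap hF h)
  refine ⟨transv hF f hf ν hν, ⟨ν, hν, rfl⟩, ?_, ?_⟩
  · rintro ⟨c, hc⟩
    rw [act_transv] at hc
    apply hfe
    refine ⟨(ν * hermForm 3 F q e f)⁻¹ * (c - 1), ?_⟩
    have h1 : (ν * hermForm 3 F q e f) • f = (c - 1) • e := by
      rw [sub_smul, one_smul, ← hc, add_sub_cancel_left]
    rw [mul_smul, ← h1, smul_smul, inv_mul_cancel₀ (mul_ne_zero hν0 hef), one_smul]
  · rintro ⟨c, hc⟩
    rw [act_transv] at hc
    have h1 : e = (c - ν * hermForm 3 F q e f) • f := by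
      rw [sub_smul, ← hc, add_sub_cancel_right]
    apply hef
    rw [h1, herm_smul_left, hf, mul_zero]

/-- **two isotropic lines** -/
theorem sup_iso (hF : Fintype.card F = q ^ 2) (hq : 3 ≤ q) {e f : Fin 3 → F} (he0 : e ≠ 0) (hf0 : f ≠ 0)
    (he : hermForm 3 F q e e = 0) (hf : hermForm 3 F q f f = 0) (hfe : ¬ ∃ c : F, f = c • e) :
    St F q e ⊔ St F q f = ⊤ := by
  have hef : ¬ ∃ c : F, e = c • f := by
    rintro ⟨c, hc⟩
    have hc0 : c ≠ 0 := by
      rintro rfl
      rw [zero_smul] at hc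
      exact he0 hc
    exact hfe ⟨c⁻¹, by rw [hc, smul_smul, inv_mul_cancel₀ hc0, one_smul]⟩
  refine eq_top_of_trans hF hq he0 he ((transvG_le_St hF he he).trans le_sup_left) fun x hx0 hx => ?_
  by_cases hxf : ∃ c : F, x = c • f
  · obtain ⟨g, hg, h1, h2⟩ := exists_moved hF he0 hf0 he hf hfe
    have hgM : g ∈ St F q e ⊔ St F q f := (transvG_le_St hF hf hf).trans le_sup_right hg
    have hiso : hermForm 3 F q (act g e) (act g e) = 0 := by rw [herm_act, he]
    have hxe : ¬ ∃ c : F, x = c • e := by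
      rintro ⟨c, hc⟩
      obtain ⟨d, hd⟩ := hxf
      have hc0 : c ≠ 0 := by
        rintro rfl
        rw [zero_smul] at hc
        exact hx0 hc
      exact hef ⟨c⁻¹ * d, by rw [mul_smul, ← hd, hc, smul_smul, inv_mul_cancel₀ hc0, one_smul]⟩
    obtain ⟨k, hk, c, hc, h3⟩ := exists_St hF he0 he hx hiso hxe h1
    exact ⟨k * g, mul_mem ((le_sup_left : St F q e ≤ _) hk) hgM, c, hc, by rw [act_mul, h3]⟩
  · obtain ⟨k, hk, c, hc, h3⟩ := exists_St hF hf0 hf hx he hxf hef
    exact ⟨k, (le_sup_right : St F q f ≤ _) hk, c, hc, h3⟩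

/-- **an isotropic line and an orthogonal nonisotropic one** -/
theorem sup_iso_non (hF : Fintype.card F = q ^ 2) (hq : 3 ≤ q) {e f z : Fin 3 → F} (he0 : e ≠ 0) (hf0 : f ≠ 0)
    (he : hermForm 3 F q e e = 0) (hf : hermForm 3 F q f f = 0) (hfe : ¬ ∃ c : F, f = c • e)
    (hzf : hermForm 3 F q z f = 0) : St F q e ⊔ St F q z = ⊤ := by
  refine eq_top_of_trans hF hq he0 he ((transvG_le_St hF he he).trans le_sup_left) fun x hx0 hx => ?_
  by_cases hxe : ∃ c : F, x = c • e
  · obtain ⟨c, hc⟩ := hxe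
    have hc0 : c ≠ 0 := by
      rintro rfl
      rw [zero_smul] at hc
      exact hx0 hc
    exact ⟨1, one_mem _, c⁻¹, inv_ne_zero hc0, by rw [act_one, hc, smul_smul, inv_mul_cancel₀ hc0, one_smul]⟩
  · obtain ⟨g, hg, h1, -⟩ := exists_moved hF he0 hf0 he hf hfe
    have hgM : g ∈ St F q e ⊔ St F q z := (transvG_le_St hF hf hzf).trans le_sup_right hg
    have hiso : hermForm 3 F q (act g e) (act g e) = 0 := by rw [herm_act, he]
    obtain ⟨k, hk, c, hc, h3⟩ := exists_St hF he0 he hx hiso hxe h1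
    exact ⟨k * g, mul_mem ((le_sup_left : St F q e ≤ _) hk) hgM, c, hc, by rw [act_mul, h3]⟩

/-- `St e ≠ ⊤` -/
theorem St_iso_ne_top (hF : Fintype.card F = q ^ 2) {e f : Fin 3 → F} (he0 : e ≠ 0) (hf0 : f ≠ 0)
    (he : hermForm 3 F q e e = 0) (hf : hermForm 3 F q f f = 0) (hfe : ¬ ∃ c : F, f = c • e) : St F q e ≠ ⊤ := by
  intro h
  obtain ⟨g, -, h1, -⟩ := exists_moved hF he0 hf0 he hf hfe
  have h2 : g ∈ St F q e := by rw [h]; trivial
  obtain ⟨c, -, hc⟩ := h2
  exact h1 ⟨c, hc⟩

/-! ### two orthogonal nonisotropic lines -/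

theorem linInd_orth {z w : Fin 3 → F} (hz : hermForm 3 F q z z ≠ 0) (hw : hermForm 3 F q w w ≠ 0)
    (hwz : hermForm 3 F q w z = 0) : LinearIndependent F ![z, w] := by
  have hz0 : z ≠ 0 := by
    rintro rfl
    exact hz (herm_zero_left _)
  refine linInd_of hz0 ?_
  rintro ⟨c, rfl⟩
  rw [herm_smul_left] at hwz
  rcases mul_eq_zero.1 hwz with h | h
  · rw [h, zero_smul, herm_zero_left] at hw
    exact hw rfl
  · exact hz h

theorem exists_third (hF : Fintype.card F = q ^ 2) {z w : Fin 3 → F} (hz : hermForm 3 F q z z ≠ 0)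
    (hw : hermForm 3 F q w w ≠ 0) (hwz : hermForm 3 F q w z = 0) :
    ∃ u : Fin 3 → F, hermForm 3 F q u z = 0 ∧ hermForm 3 F q u w = 0 ∧ hermForm 3 F q u u ≠ 0 := by
  obtain ⟨u, hu0, huz, huw⟩ := exists_perp (q := q) z w
  refine ⟨u, huz, huw, fun huu => ?_⟩
  have hzw : hermForm 3 F q z w = 0 := herm_eq_zero_swap hF hwz
  obtain ⟨v, hv⟩ := exists_herm_ne_zero hF hu0
  -- `v` minus its projections
  set a := hermForm 3 F q v z / hermForm 3 F q z z with ha
  set b := hermForm 3 F q v w / hermForm 3 F q w w with hb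
  obtain ⟨c, hc⟩ := line_of_perp hF (linInd_orth hz hw hwz) hu0 huz huw (z' := v - a • z - b • w)
    (by
      rw [herm_sub_left, herm_sub_left, herm_smul_left, herm_smul_left, hwz, mul_zero, sub_zero, ha,
        div_mul_cancel₀ _ hz, sub_self])
    (by
      rw [herm_sub_left, herm_sub_left, herm_smul_left, herm_smul_left, hzw, mul_zero, sub_zero, hb,
        div_mul_cancel₀ _ hw, sub_self])
  have h1 : hermForm 3 F q (v - a • z - b • w) u = 0 := by
    rw [hc, herm_smul_left, huu, mul_zero]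
  rw [herm_sub_left, herm_sub_left, herm_smul_left, herm_smul_left, herm_eq_zero_swap hF huz,
    herm_eq_zero_swap hF huw, mul_zero, mul_zero, sub_zero, sub_zero] at h1
  first
    | exact hv h1
    | exact hv (herm_eq_zero_swap hF h1)

/-- the stabiliser of a nonisotropic line `z` is transitive on the isotropic lines which are not orthogonal to it -/
theorem exists_St_non (hF : Fintype.card F = q ^ 2) {z x y : Fin 3 → F} (hz : hermForm 3 F q z z ≠ 0)
    (hx : hermForm 3 F q x x = 0) (hy : hermForm 3 F q y y = 0) (hxz : hermForm 3 F q x z ≠ 0)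
    (hyz : hermForm 3 F q y z ≠ 0) : ∃ g ∈ St F q z, ∃ c : F, c ≠ 0 ∧ act g y = c • x := by
  have hz0 : z ≠ 0 := by
    rintro rfl
    exact hz (herm_zero_left _)
  set c := hermForm 3 F q y z / hermForm 3 F q x z with hc
  have hc0 : c ≠ 0 := div_ne_zero hyz hxz
  have hxz' : hermForm 3 F q (c • x) z = hermForm 3 F q y z := by rw [herm_smul_left, hc, div_mul_cancel₀ _ hxz]
  have hxx' : hermForm 3 F q (c • x) (c • x) = 0 := by rw [herm_smul_left, herm_smul_right, hx, mul_zero, mul_zero]
  have hne : ∀ t : Fin 3 → F, hermForm 3 F q t t = 0 → hermForm 3 F q t z ≠ 0 → LinearIndependent F ![z, t] := by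
    intro t ht htz
    refine linInd_of hz0 ?_
    rintro ⟨d, rfl⟩
    rw [herm_smul_left, herm_smul_right] at ht
    rcases mul_eq_zero.1 ht with h | h
    · rw [h, zero_smul, herm_zero_left] at htz
      exact htz rfl
    · rcases mul_eq_zero.1 h with h | h
      · rw [(pow_q_eq_zero hF).1 h, zero_smul, herm_zero_left] at htz
        exact htz rfl
      · exact hz h
  obtain ⟨t, ht0, htz, htx⟩ := exists_perp (q := q) z (c • x)
  have htt : hermForm 3 F q t t ≠ 0 := by
    intro htt
    have hcx0 : c • x ≠ 0 := by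
      intro h
      rw [h, herm_zero_left] at hxz'
      exact hyz hxz'.symm
    obtain ⟨d, hd⟩ := smul_of_perp hF hcx0 hxx' htt htx
    rw [hd, herm_smul_left, hxz'] at htz
    rcases mul_eq_zero.1 htz with h | h
    · rw [h, zero_smul] at hd
      exact ht0 hd
    · exact hyz h
  obtain ⟨g, hg⟩ := Cfsg.Agent.H77.Witt.exists_su_ext hF ![z, y] ![z, c • x] (hne y hy hyz)
    (hne _ hxx' (by rw [hxz']; exact hyz))
    (by
      have h1 : hermForm 3 F q z y = hermForm 3 F q z (c • x) := by
        rw [herm_swap hF y z, herm_swap hF (c • x) z, hxz']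
      intro i j
      fin_cases i <;> fin_cases j
      · rfl
      · exact h1
      · exact hxz'.symm
      · change hermForm 3 F q y y = hermForm 3 F q (c • x) (c • x)
        rw [hy, hxx'])
    htt
    (by
      intro i
      fin_cases i
      · exact htz
      · exact htx)
  exact ⟨g, ⟨1, one_ne_zero, by rw [one_smul]; exact hg 0⟩, c, hc0, hg 1⟩

/-- **two orthogonal nonisotropic lines** -/
theorem sup_non (hF : Fintype.card F = q ^ 2) (hq : 3 ≤ q) {z w : Fin 3 → F} (hz : hermForm 3 F q z z ≠ 0)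
    (hw : hermForm 3 F q w w ≠ 0) (hwz : hermForm 3 F q w z = 0) : St F q z ⊔ St F q w = ⊤ := by
  have hzw : hermForm 3 F q z w = 0 := herm_eq_zero_swap hF hwz
  obtain ⟨u, huz, huw, huu⟩ := exists_third hF hz hw hwz
  have hzu := herm_eq_zero_swap hF huz
  have hwu := herm_eq_zero_swap hF huw
  have hfix := herm_self_pow hF (n := 3)
  -- isotropic vectors
  obtain ⟨γ, hγ⟩ := exists_norm_eq hF (c := -(hermForm 3 F q z z + hermForm 3 F q w w) / hermForm 3 F q u u)
    (by rw [div_pow, neg_pow_q hF, add_pow_q hF, hfix, hfix, hfix])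
  obtain ⟨δ, hδ⟩ := exists_norm_eq hF (c := -hermForm 3 F q w w / hermForm 3 F q u u)
    (by rw [div_pow, neg_pow_q hF, hfix, hfix])
  set x₀ : Fin 3 → F := z + w + γ • u with hx₀
  have hx₀z : hermForm 3 F q x₀ z = hermForm 3 F q z z := by
    rw [hx₀, herm_add_left, herm_add_left, herm_smul_left, hwz, huz]; ring
  have hx₀w : hermForm 3 F q x₀ w = hermForm 3 F q w w := by
    rw [hx₀, herm_add_left, herm_add_left, herm_smul_left, hzw, huw]; ring
  have hx₀u : hermForm 3 F q x₀ u = γ * hermForm 3 F q u u := by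
    rw [hx₀, herm_add_left, herm_add_left, herm_smul_left, hzu, hwu]; ring
  have hx₀x : hermForm 3 F q x₀ x₀ = 0 := by
    have h1 : hermForm 3 F q x₀ x₀ = hermForm 3 F q x₀ z + hermForm 3 F q x₀ w + γ ^ q * hermForm 3 F q x₀ u := by
      conv_lhs => rw [hx₀, herm_add_right hF, herm_add_right hF, herm_smul_right, ← hx₀]
    rw [h1, hx₀z, hx₀w, hx₀u]
    have h2 : γ * γ ^ q * hermForm 3 F q u u = -(hermForm 3 F q z z + hermForm 3 F q w w) := by
      rw [hγ, div_mul_cancel₀ _ huu]
    linear_combination h2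
  set e : Fin 3 → F := w + δ • u with he
  have hez : hermForm 3 F q e z = 0 := by
    rw [he, herm_add_left, herm_smul_left, hwz, huz]; ring
  have hew : hermForm 3 F q e w = hermForm 3 F q w w := by
    rw [he, herm_add_left, herm_smul_left, huw]; ring
  have hee : hermForm 3 F q e e = 0 := by
    have h1 : hermForm 3 F q e e = hermForm 3 F q e w + δ ^ q * hermForm 3 F q e u := by
      conv_lhs => rw [he, herm_add_right hF, herm_smul_right, ← he]
    have h2 : hermForm 3 F q e u = δ * hermForm 3 F q u u := by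
      rw [he, herm_add_left, herm_smul_left, hwu]; ring
    rw [h1, hew, h2]
    have h3 : δ * δ ^ q * hermForm 3 F q u u = -hermForm 3 F q w w := by
      rw [hδ, div_mul_cancel₀ _ huu]
    linear_combination h3
  have he0 : e ≠ 0 := by
    intro h
    rw [h, herm_zero_left] at hew
    exact hw hew.symm
  -- everything is reachable from `x₀`
  have key : ∀ x : Fin 3 → F, x ≠ 0 → hermForm 3 F q x x = 0 →
      ∃ g ∈ St F q z ⊔ St F q w, ∃ c : F, c ≠ 0 ∧ act g x₀ = c • x := by
    intro x hx0 hx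
    by_cases h1 : hermForm 3 F q x z = 0
    · by_cases h2 : hermForm 3 F q x w = 0
      · exfalso
        have hu0 : u ≠ 0 := by
          rintro rfl
          exact huu (herm_zero_left _)
        obtain ⟨c, hc⟩ := line_of_perp hF (linInd_orth hz hw hwz) hu0 huz huw h1 h2
        rw [hc, herm_smul_left, herm_smul_right] at hx
        have hc0 : c ≠ 0 := by
          rintro rfl
          rw [zero_smul] at hc
          exact hx0 hc
        exact mul_ne_zero hc0 (mul_ne_zero (pow_ne_zero q hc0) huu) hx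
      · obtain ⟨g, hg, h3⟩ := exists_St_non hF hw hx hx₀x h2 (by rw [hx₀w]; exact hw)
        exact ⟨g, (le_sup_right : St F q w ≤ _) hg, h3⟩
    · obtain ⟨g, hg, h3⟩ := exists_St_non hF hz hx hx₀x h1 (by rw [hx₀z]; exact hz)
      exact ⟨g, (le_sup_left : St F q z ≤ _) hg, h3⟩
  obtain ⟨g₀, hg₀, c₀, hc₀, h₀⟩ := key e he0 hee
  refine eq_top_of_trans hF hq he0 hee ((transvG_le_St hF hee (herm_eq_zero_swap hF hez)).trans le_sup_left)
    fun x hx0 hx => ?_
  obtain ⟨g, hg, c, hc, h1⟩ := key x hx0 hx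
  refine ⟨g * g₀⁻¹, mul_mem hg (inv_mem hg₀), c₀⁻¹ * c, mul_ne_zero (inv_ne_zero hc₀) hc, ?_⟩
  have h2 : act g₀⁻¹ e = c₀⁻¹ • x₀ := by
    have h3 : act g₀⁻¹ (act g₀ x₀) = act g₀⁻¹ (c₀ • e) := by rw [h₀]
    rw [act_inv_act, act_smul] at h3
    rw [h3, smul_smul, inv_mul_cancel₀ hc₀, one_smul]
  rw [act_mul, h2, act_smul, h1, smul_smul]

/-- `St z ≠ ⊤` -/
theorem St_non_ne_top (hF : Fintype.card F = q ^ 2) {z w : Fin 3 → F} (hz : hermForm 3 F q z z ≠ 0)
    (hw : hermForm 3 F q w w ≠ 0) (hwz : hermForm 3 F q w z = 0) : St F q z ≠ ⊤ := by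
  intro h
  have hzw : hermForm 3 F q z w = 0 := herm_eq_zero_swap hF hwz
  have hfix := herm_self_pow hF (n := 3)
  obtain ⟨γ, hγ⟩ := exists_norm_eq hF (c := hermForm 3 F q z z / hermForm 3 F q w w)
    (by rw [div_pow, hfix, hfix])
  have hγ0 : γ ≠ 0 := by
    rintro rfl
    rw [zero_mul] at hγ
    exact div_ne_zero hz hw hγ.symm
  have hz0 : z ≠ 0 := by
    rintro rfl
    exact hz (herm_zero_left _)
  have hw0 : w ≠ 0 := by
    rintro rfl
    exact hw (herm_zero_left _)
  have hww : hermForm 3 F q (γ • w) (γ • w) = hermForm 3 F q z z := by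
    rw [herm_smul_left, herm_smul_right, ← mul_assoc, hγ, div_mul_cancel₀ _ hw]
  obtain ⟨g, hg⟩ := Cfsg.Agent.H77.Witt.exists_su_ext hF ![z] ![γ • w] (linearIndependent_unique_iff.2 hz0)
    (linearIndependent_unique_iff.2 (smul_ne_zero hγ0 hw0))
    (by
      intro i j
      fin_cases i
      fin_cases j
      exact hww.symm)
    hz
    (by
      intro i
      fin_cases i
      change hermForm 3 F q z (γ • w) = 0
      rw [herm_smul_right, hzw, mul_zero])
  have h2 : g ∈ St F q z := by rw [h]; trivial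
  obtain ⟨c, hc0, hc⟩ := h2
  have h3 : act g z = γ • w := hg 0
  have h4 : hermForm 3 F q (c • z) z = 0 := by
    rw [← hc, h3, herm_smul_left, hwz, mul_zero]
  rw [herm_smul_left] at h4
  exact mul_ne_zero hc0 hz h4

end Cfsg.Agent.H487.CCPsu3
end

-- part: H487/CC/PsuChar
section
/-!
# `PSU₃(q)`, `p ∣ q` (helper487, for S3828)
-/

set_option autoImplicit false
set_option linter.unusedSectionVars false
set_option linter.unusedVariables false

namespace Cfsg.Agent.H487.CCPsu3

open Cfsg Matrix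
open Cfsg.Agent.LieClassical.HermBasic Cfsg.Agent.LieClassical.HermSiegel Cfsg.Agent.LieClassical.HermGen
open Cfsg.Agent.ClassicalGeometry.PSUAutBasic
open Cfsg.Agent.ClassicalGeometry.PSUAutSylow
open Cfsg.Agent.ClassicalGeometry.PSUAutPhi Cfsg.Agent.ClassicalGeometry.PSUAutTorus
open Cfsg.Agent.ClassicalGeometry.PSUAutSemi Cfsg.Agent.ClassicalGeometry.PSUAutDelta
open Cfsg.Agent.H358.U3 (smul_of_perp exists_move)
open Cfsg.Agent.H162.CCR
open Cfsg.Agent.H760.StrU3 (zz PP mem_PP isSiegel_congr)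

variable {F : Type*} [Field F] [Fintype F] {q : ℕ}

theorem KK_ne_top (hF : Fintype.card F = q ^ 2) {v : Fin 3 → F} (h : St F q v ≠ ⊤) : KK F q v ≠ ⊤ := by
  intro h1
  apply h
  rw [eq_top_iff]
  intro g _
  have h2 : pr 3 F q g ∈ KK F q v := by rw [h1]; trivial
  exact (pr_mem_KK hF).1 h2

theorem KK_sup {v w : Fin 3 → F} (h : St F q v ⊔ St F q w = ⊤) : KK F q v ⊔ KK F q w = ⊤ := by
  rw [KK, KK, ← Subgroup.map_sup, h, ← MonoidHom.range_eq_map, MonoidHom.range_eq_top.2 pr_surjective]

theorem partner_ne {e f : Fin 3 → F} (he : hermForm 3 F q e e = 0) (hfe : hermForm 3 F q f e = 1) :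
    (¬ ∃ c : F, f = c • e) ∧ f ≠ 0 := by
  constructor
  · rintro ⟨c, rfl⟩
    rw [herm_smul_left, he, mul_zero] at hfe
    exact zero_ne_one hfe
  · rintro rfl
    rw [herm_zero_left] at hfe
    exact zero_ne_one hfe

/-- a nonisotropic line which is orthogonal to a hyperbolic pair -/
theorem exists_non_orth (hF : Fintype.card F = q ^ 2) {e f : Fin 3 → F} (he0 : e ≠ 0)
    (he : hermForm 3 F q e e = 0) (hef : hermForm 3 F q e f = 1) (hff : hermForm 3 F q f f = 0)
    (hfe : hermForm 3 F q f e = 1) :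
    ∃ z : Fin 3 → F, hermForm 3 F q z e = 0 ∧ hermForm 3 F q z f = 0 ∧ hermForm 3 F q z z ≠ 0 ∧ St F q z ≠ ⊤ := by
  obtain ⟨z, hz0, hze, hzf⟩ := exists_perp (q := q) e f
  have hzz : hermForm 3 F q z z ≠ 0 := by
    intro h
    obtain ⟨c, hc⟩ := smul_of_perp hF he0 he h hze
    rw [hc, herm_smul_left, hef, mul_one] at hzf
    rw [hzf, zero_smul] at hc
    exact hz0 hc
  refine ⟨z, hze, hzf, hzz, ?_⟩
  obtain ⟨a, ha⟩ := exists_trace_ne hF
  refine St_non_ne_top hF (w := e + a • f) hzz ?_ ?_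
  · rw [herm_add_left, herm_add_right hF, herm_add_right hF, herm_smul_left, herm_smul_left, herm_smul_right,
      herm_smul_right, he, hff, hef, hfe]
    intro h
    apply ha
    linear_combination h
  · rw [herm_add_left, herm_smul_left, herm_eq_zero_swap hF hze, herm_eq_zero_swap hF hzf, mul_zero, add_zero]

variable {p : ℕ} [hp : Fact p.Prime] {C : Set (PSU 3 F q)}

/-- no transvections -/
theorem no_transv (hF : Fintype.card F = q ^ 2) (hq : 3 ≤ q) (hC : Min p C) (hO : pCore p (PSU 3 F q) = ⊥)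
    {e : Fin 3 → F} (he0 : e ≠ 0) (he : hermForm 3 F q e e = 0) {ν : F} (hν : ν + ν ^ q = 0)
    (h : pr 3 F q (transv hF e he ν hν) ∈ C) : ν = 0 := by
  have hfin : Finite (PSU 3 F q) := Quotient.finite _
  obtain ⟨f, hff, hef, hfe⟩ := exists_partner hF he0 he
  obtain ⟨hne, hf0⟩ := partner_ne he hfe
  by_contra hν0
  have h1 : pr 3 F q (transv hF e he ν hν) ≠ 1 := by
    intro h1
    rw [pr_eq_one_iff] at h1
    obtain ⟨c, hc0, -, hc⟩ := exists_scalar_of_mem_center hF le_rfl h1
    have h2 := hc f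
    rw [act_transv, hfe, mul_one] at h2
    have h3 : ν • e = (c - 1) • f := by
      rw [sub_smul, one_smul, ← h2, add_sub_cancel_left]
    have h4 : hermForm 3 F q (ν • e) f = 0 := by rw [h3, herm_smul_left, hff, mul_zero]
    rw [herm_smul_left, hef, mul_one] at h4
    exact hν0 h4
  obtain ⟨z, hze, hzf, hzz, hzt⟩ := exists_non_orth hF he0 he hef hff hfe
  exact hC.two_overgroups hO h h1 (KK_ne_top hF (St_iso_ne_top hF he0 hf0 he hff hne)) (KK_ne_top hF hzt)
    ((pr_mem_KK hF).2 (transvG_le_St hF he he ⟨ν, hν, rfl⟩)) ((pr_mem_KK hF).2 (transvG_le_St hF he hze ⟨ν, hν, rfl⟩))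
    (KK_sup (sup_iso_non hF hq he0 hf0 he hff hne hzf))

/-- the multiplier -/
theorem exists_mult (hF : Fintype.card F = q ^ 2) (hq : 2 < q) :
    ∃ a : F, a ≠ 0 ∧ (a ^ q * (a ^ q * a⁻¹)) ^ q ≠ a ^ q * (a ^ q * a⁻¹) := by
  by_contra hcon
  push Not at hcon
  obtain ⟨g, hg⟩ := IsCyclic.exists_generator (α := Fˣ)
  have h1 := hcon (g : F) g.ne_zero
  have hg0 : (g : F) ≠ 0 := g.ne_zero
  have h2 : ((g : F) ^ q) ^ 3 = (g : F) ^ 3 := by
    rw [mul_pow, mul_pow, pow_q_pow_q hF, inv_pow] at h1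
    have hgq : (g : F) ^ q ≠ 0 := pow_ne_zero _ hg0
    field_simp at h1
    linear_combination -h1
  have h3 : g ^ (3 * (q - 1)) = 1 := by
    apply Units.ext
    push_cast
    have h4 : (g : F) ^ (3 * (q - 1)) * (g : F) ^ 3 = 1 * (g : F) ^ 3 := by
      rw [← pow_add, one_mul, ← h2, ← pow_mul]
      congr 1
      have : 1 ≤ q := by omega
      zify [this]
      ring
    exact mul_right_cancel₀ (pow_ne_zero 3 hg0) h4
  have h5 : Nat.card Fˣ ∣ 3 * (q - 1) := by
    rw [← orderOf_eq_card_of_forall_mem_zpowers hg]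
    exact orderOf_dvd_of_pow_eq_one h3
  rw [card_units_eq hF] at h5
  have h6 : q + 1 ∣ 3 := Nat.dvd_of_mul_dvd_mul_right (by omega) h5
  have := Nat.le_of_dvd (by norm_num) h6
  omega

/-- the Sylow subgroup -/
theorem exists_sylow_PP [CharP F p] (hF : Fintype.card F = q ^ 2) {e f : Fin 3 → F} (H : IsFrame q e f) :
    ∃ S : Sylow p (PSU 3 F q), (S : Subgroup (PSU 3 F q)) = PP hF H := by
  have hfin : Finite (PSU 3 F q) := Quotient.finite _
  have hq2 := two_le hF
  have hpq : p ∣ q := prime_dvd_q p hF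
  -- the order of `SU₃(q)`
  have hcard : Nat.card (SU 3 F q) = q ^ 3 * ((q ^ 2 - 1) * (q ^ 3 + 1)) := by
    have h1 := Cfsg.Agent.LieClassical.GUOrder.card_GU_eq hF (n := 3) (by norm_num)
    rw [Cfsg.Agent.S0277.result hF 3, Finset.prod_range_succ, Finset.prod_range_succ, Finset.prod_range_one,
      if_pos (by decide), if_neg (by decide), if_pos (by decide)] at h1
    have h2 : (q + 1) * (q ^ 3 * ((q ^ 2 - 1) * (q ^ 3 + 1))) = (q + 1) * Nat.card (SU 3 F q) := by
      rw [← h1]; norm_num; ring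
    exact (Nat.eq_of_mul_eq_mul_left (Nat.succ_pos q) h2).symm
  have hcU : Nat.card (siegG hF e H.ee) = q ^ 3 := by
    have h1 := Cfsg.Agent.H934.IdxPSU.card_siegG hF H
    have h2 := Cfsg.Agent.H667.TwoPSUModel.card_siegG_le hF H
    have h3 : (q ^ 2) ^ (3 - 2) * q = q ^ 3 := by norm_num; ring
    omega
  have hidx : ¬ p ∣ (siegG hF e H.ee).index := by
    have h1 := (siegG hF e H.ee).card_mul_index
    rw [hcU, hcard] at h1
    have h2 : (siegG hF e H.ee).index = (q ^ 2 - 1) * (q ^ 3 + 1) := Nat.eq_of_mul_eq_mul_left (by positivity) h1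
    rw [h2, hp.out.dvd_mul]
    have h3 : p ∣ q ^ 2 := dvd_pow hpq (by norm_num)
    have h4 : p ∣ q ^ 3 := dvd_pow hpq (by norm_num)
    have h5 : 1 ≤ q ^ 2 := Nat.one_le_pow _ _ (by omega)
    have hp1 := hp.out.one_lt
    rintro (h | h)
    · have h6 : p ∣ q ^ 2 - (q ^ 2 - 1) := Nat.dvd_sub h3 h
      have h7 : q ^ 2 - (q ^ 2 - 1) = 1 := by omega
      rw [h7, Nat.dvd_one] at h6
      omega
    · have h6 := (Nat.dvd_add_right h4).1 h
      rw [Nat.dvd_one] at h6
      omega
  let S0 : Sylow p (SU 3 F q) := (isPGroup_siegG hF p H.ee).toSylow hidx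
  exact ⟨S0.mapSurjective (f := pr 3 F q) pr_surjective, rfl⟩

/-- **`p ∣ q`** -/
theorem crow_char [CharP F p] (hF : Fintype.card F = q ^ 2) (hq : 3 ≤ q) (hC : Min p C)
    (hO : pCore p (PSU 3 F q) = ⊥) : ∀ c ∈ C, c = 1 := by
  have hfin : Finite (PSU 3 F q) := Quotient.finite _
  intro c hc
  by_contra hc1
  obtain ⟨e, f, H⟩ := exists_frame (n := 3) hF (by omega)
  have he0 : e ≠ 0 := by
    rintro rfl
    have := H.ef
    rw [herm_zero_left] at this
    exact zero_ne_one this
  obtain ⟨S, hS⟩ := exists_sylow_PP (p := p) hF H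
  obtain ⟨d, hd, hd1, hdS⟩ := hC.exists_mem_sylow hc hc1 S
  rw [hS] at hdS
  obtain ⟨c0, μ, h, rfl⟩ := mem_PP.1 hdS
  by_cases hc0 : c0 = 0
  · -- a transvection
    have h1 : IsSiegel q e 0 μ := isSiegel_congr (by rw [hc0, zero_smul]) h
    have hμ : μ + μ ^ q = 0 := by
      have := h1.tr
      rw [herm_zero_left, add_zero] at this
      exact this
    have h2 : siegel hF e (c0 • zz F) μ h = transv hF e H.ee μ hμ := by
      unfold transv
      exact siegel_congr hF _ _ rfl (by rw [hc0, zero_smul]) rfl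
    rw [h2] at hd hd1
    have h3 := no_transv hF hq hC hO he0 H.ee hμ hd
    apply hd1
    subst h3
    rw [transv_zero, map_one]
  · -- a commutator
    obtain ⟨a, ha, hs⟩ := exists_mult hF (by omega)
    set s := a ^ q * (a ^ q * a⁻¹) with hsdef
    obtain ⟨l, hle, -, hlz, -⟩ := exists_torus_unit hF H single_zero_mem (herm_single_zero hF) ha
    obtain ⟨h', e1⟩ := conj_siegel_stab hF hle ha h
    have hd' := hC.conj (pr 3 F q l) _ hd
    rw [← map_inv, ← map_mul, ← map_mul, e1] at hd'
    have h2 := hC.comm _ hd _ hd'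
    have ew : a ^ q • act l (c0 • zz F) = (s * c0) • zz F := by
      rw [act_smul, hlz, smul_smul, smul_smul, hsdef]
      congr 1
      ring
    have hν0 : c0 * (s * c0) ^ q - s * c0 * c0 ^ q ≠ 0 := by
      have h3 : c0 * (s * c0) ^ q - s * c0 * c0 ^ q = c0 * c0 ^ q * (s ^ q - s) := by
        rw [mul_pow]; ring
      rw [h3]
      exact mul_ne_zero (mul_ne_zero hc0 (pow_ne_zero _ hc0)) (sub_ne_zero.2 hs)
    have hν : (c0 * (s * c0) ^ q - s * c0 * c0 ^ q) + (c0 * (s * c0) ^ q - s * c0 * c0 ^ q) ^ q = 0 := by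
      rw [sub_pow_q hF, mul_pow c0, pow_q_pow_q hF, mul_pow (s * c0), pow_q_pow_q hF]
      ring
    rw [← map_inv, ← map_inv, ← map_mul, ← map_mul, ← map_mul, siegel_inv hF h, siegel_inv hF h'] at h2
    have h3 := Cfsg.Agent.H934.IdxPSU.siegel_comm hF (h.inv hF) (h'.inv hF) hν (by
      rw [ew, ← neg_smul, ← neg_smul, herm_smul_left, herm_smul_right, herm_smul_left,
        herm_smul_right, herm_single_zero hF, neg_pow_q hF, neg_pow_q hF]
      ring)
    rw [siegel_inv hF, siegel_inv hF] at h3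
    have h4 : pr 3 F q (transv hF e H.ee _ hν) ∈ C := by
      rw [← h3]
      convert h2 using 2
      congr 1
      · congr 1
        exact siegel_congr hF _ _ rfl (neg_neg _) (by rw [pow_q_pow_q hF])
      · exact siegel_congr hF _ _ rfl (neg_neg _) (by rw [pow_q_pow_q hF])
    exact hν0 (no_transv hF hq hC hO he0 H.ee hν h4)

end Cfsg.Agent.H487.CCPsu3
end

private theorem dce_d795378b3e2b : _root_.True := by
  try have : _root_.True := by simp only [_root_.Cfsg.Agent.H487.CCPsu3.KK.eq_1]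
  exact _root_.True.intro
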